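import Mathlib

set_option autoImplicit false

namespace Groth.Agent.Lie3Lib

variable {σ A : Type*} [CommRing A]

open MvPolynomial

/-- `x` is a non-zero-divisor modulo `I`. -/
def NZD {R : Type*} [CommRing R] (I : Ideal R) (x : R) : Prop := ∀ y, x * y ∈ I → y ∈ I

theorem NZD.mul {R : Type*} [CommRing R] {I : Ideal R} {x y : R} (hx : NZD I x) (hy : NZD I y) :
    NZD I (x * y) := fun z hz => hy z (hx _ (by rwa [mul_assoc] at hz))

theorem NZD.neg {R : Type*} [CommRing R] {I : Ideal R} {x : R} (hx : NZD I x) : NZD I (-x) :=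
  fun z hz => hx z (by rwa [neg_mul, neg_mem_iff] at hz)

theorem NZD.swap {R : Type*} [CommRing R] {I : Ideal R} {p q : R} (hp : NZD I p)
    (hq : NZD (I ⊔ Ideal.span {p}) q) : NZD (I ⊔ Ideal.span {q}) p := by
  intro x hx
  obtain ⟨i, hi, b, hb, hib⟩ := Submodule.mem_sup.mp hx
  obtain ⟨a, rfl⟩ := Ideal.mem_span_singleton'.mp hb
  have ha : a ∈ I ⊔ Ideal.span {p} := hq a (by
    rw [show q * a = -i + x * p by linear_combination hib]
    exact add_mem (Submodule.mem_sup_left (neg_mem hi))
      (Submodule.mem_sup_right (Ideal.mul_mem_left _ _ (Ideal.mem_span_singleton_self p))))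
  obtain ⟨i', hi', b', hb', hib'⟩ := Submodule.mem_sup.mp ha
  obtain ⟨a', rfl⟩ := Ideal.mem_span_singleton'.mp hb'
  have h : x - q * a' ∈ I := hp _ (by
    rw [show p * (x - q * a') = i + q * i' by linear_combination -hib - q * hib']
    exact add_mem hi (I.mul_mem_left q hi'))
  rw [show x = (x - q * a') + a' * q by ring]
  exact add_mem (Submodule.mem_sup_left h)
    (Submodule.mem_sup_right (Ideal.mul_mem_left _ _ (Ideal.mem_span_singleton_self q)))

theorem NZD.congr {R : Type*} [CommRing R] {I : Ideal R} {x y : R} (hx : NZD I x)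
    (h : y - x ∈ I) : NZD I y := fun z hz => hx z (by
  rw [show x * z = y * z - (y - x) * z by ring]
  exact I.sub_mem hz (I.mul_mem_right z h))

theorem NZD.of_eq {R : Type*} [CommRing R] {I J : Ideal R} {x : R} (hx : NZD I x) (h : I = J) :
    NZD J x := h ▸ hx

variable [DecidableEq σ]

/-- View a polynomial as a polynomial in `X j`. -/
noncomputable def asPoly (j : σ) : MvPolynomial σ A →ₐ[A] Polynomial (MvPolynomial σ A) :=
  aeval fun i => if i = j then Polynomial.X else Polynomial.C (X i)

/-- `p` does not involve `X j`. -/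
def Free (j : σ) (p : MvPolynomial σ A) : Prop := asPoly j p = Polynomial.C p

theorem free_X {i j : σ} (h : i ≠ j) : Free (A := A) j (X i) := by
  simp [Free, asPoly, h]

theorem Free.add {j : σ} {p q : MvPolynomial σ A} (hp : Free j p) (hq : Free j q) : Free j (p + q) := by
  simp only [Free] at *; rw [map_add, map_add, hp, hq]

theorem Free.sub {j : σ} {p q : MvPolynomial σ A} (hp : Free j p) (hq : Free j q) : Free j (p - q) := by
  simp only [Free] at *; rw [map_sub, map_sub, hp, hq]

theorem Free.mul {j : σ} {p q : MvPolynomial σ A} (hp : Free j p) (hq : Free j q) : Free j (p * q) := by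
  simp only [Free] at *; rw [map_mul, map_mul, hp, hq]

theorem Free.neg {j : σ} {p : MvPolynomial σ A} (hp : Free j p) : Free j (-p) := by
  simp only [Free] at *; rw [map_neg, map_neg, hp]

theorem free_zero (j : σ) : Free (A := A) j (0 : MvPolynomial σ A) := by
  simp [Free]

theorem free_one (j : σ) : Free (A := A) j (1 : MvPolynomial σ A) := by
  simp [Free]

theorem eval_asPoly (j : σ) (p : MvPolynomial σ A) : (asPoly j p).eval (X j) = p := by
  induction p using MvPolynomial.induction_on with
  | C a => simp [asPoly]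
  | add p q hp hq => simp [hp, hq]
  | mul_X p i hp =>
    rw [map_mul, Polynomial.eval_mul, hp]
    congr 1
    by_cases h : i = j <;> simp [asPoly, h]

/-- A linear polynomial `X j * α + β` is a non-zero-divisor modulo elements free of `X j`. -/
theorem linear_nzd (j : σ) (S : Set (MvPolynomial σ A)) (α β : MvPolynomial σ A)
    (hS : ∀ s ∈ S, Free j s) (hα : Free j α) (hβ : Free j β)
    (h : ∀ x y, α * y ∈ Ideal.span S → α * x + β * y ∈ Ideal.span S → y ∈ Ideal.span S) :
    NZD (Ideal.span S) (X j * α + β) := by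
  intro z hz
  have hmap : asPoly j ((X j * α + β) * z) ∈ (Ideal.span S).map Polynomial.C := by
    have h1 := Ideal.mem_map_of_mem (asPoly j).toRingHom hz
    rw [Ideal.map_span] at h1 ⊢
    refine Ideal.span_mono ?_ h1
    rintro _ ⟨s, hs, rfl⟩
    exact ⟨s, hs, (hS s hs).symm⟩
  set P := asPoly j z with hP
  have hco := Ideal.mem_map_C_iff.mp hmap
  have hXj : asPoly (A := A) j (X j) = Polynomial.X := by simp [asPoly]
  rw [map_mul, map_add, map_mul, hα, hβ, hXj, ← hP] at hco
  have h0 : β * P.coeff 0 ∈ Ideal.span S := by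
    simpa [add_mul, mul_assoc, mul_comm Polynomial.X] using hco 0
  have hsucc : ∀ k, α * P.coeff k + β * P.coeff (k + 1) ∈ Ideal.span S := fun k => by
    simpa [add_mul, mul_assoc, Polynomial.coeff_X_mul, Polynomial.coeff_C_mul] using hco (k + 1)
  have key : ∀ m k, P.natDegree < k + m → P.coeff k ∈ Ideal.span S := by
    intro m
    induction m with
    | zero =>
      intro k hk
      rw [Polynomial.coeff_eq_zero_of_natDegree_lt (by omega)]
      exact Submodule.zero_mem _
    | succ m ih =>
      intro k hk
      have hnext := ih (k + 1) (by omega)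
      have hαk : α * P.coeff k ∈ Ideal.span S := by
        have := sub_mem (hsucc k) (Ideal.mul_mem_left _ β hnext)
        simpa using this
      cases k with
      | zero => exact h 0 _ hαk (by simpa using h0)
      | succ k => exact h _ _ hαk (hsucc k)
  rw [← eval_asPoly j z, ← hP, Polynomial.eval_eq_sum_range]
  exact Ideal.sum_mem _ fun k _ => Ideal.mul_mem_right _ _ (key (P.natDegree + 1) k (by omega))

theorem linear_nzd' (j : σ) (S : Set (MvPolynomial σ A)) (α β : MvPolynomial σ A)
    (hS : ∀ s ∈ S, Free j s) (hα : Free j α) (hβ : Free j β) (h : NZD (Ideal.span S) α) :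
    NZD (Ideal.span S) (X j * α + β) :=
  linear_nzd j S α β hS hα hβ fun _ y hy _ => h y hy

theorem X_nzd (j : σ) (S : Set (MvPolynomial σ A)) (hS : ∀ s ∈ S, Free j s) :
    NZD (Ideal.span S) (X j) := by
  have := linear_nzd' j S 1 0 hS (free_one j) (free_zero j) (fun y hy => by rwa [one_mul] at hy)
  simpa using this

end Groth.Agent.Lie3Lib
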