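import Mathlib
import Groth.Agent.Lie3Lib.Linear

set_option autoImplicit false

namespace Groth.Agent.Lie3Lib

open MvPolynomial

/-! Coordinates `g c i h e f u v w` on the space of brackets; the double cover `g = s², c = t², i = s t`. -/

section coords
variable (A : Type*) [CommRing A]

abbrev P := MvPolynomial (Fin 9) A
abbrev R := MvPolynomial (Fin 8) A

noncomputable def C22 : P A := X 0 * X 1 - X 2 * X 2
noncomputable def E1 : P A := -(X 0 * X 7) + X 3 * X 6 + X 2 * X 8
noncomputable def E2 : P A := X 4 * X 6 + (X 3 * X 7 + (X 5 - X 7) * X 8)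
noncomputable def E3 : P A := X 2 * X 7 + X 5 * X 6 - X 1 * X 8
noncomputable def detN : P A :=
  -(X 1 * X 3 * X 3) + X 0 * X 7 * X 5 - X 0 * X 5 * X 5 + X 4 * X 2 * X 2 - X 0 * X 4 * X 1
    + X 3 * X 2 * X 7 - 2 * (X 3 * X 2 * X 5)

noncomputable def cover : P A →ₐ[A] R A :=
  aeval ![X 0 * X 0, X 1 * X 1, X 0 * X 1, X 2, X 3, X 4, X 5, X 6, X 7]

noncomputable def qR : R A := X 0 * X 6 - X 1 * X 7
noncomputable def F1 : R A := X 2 * X 5 - X 0 * qR A
noncomputable def F3 : R A := X 4 * X 5 + X 1 * qR A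
noncomputable def rR : R A := X 2 * X 6 + (X 4 - X 6) * X 7
noncomputable def F2 : R A := X 3 * X 5 + rR A
noncomputable def D2 : R A := X 2 * X 1 + X 4 * X 0

theorem cover_E1 : cover A (E1 A) = F1 A := by
  simp [cover, E1, F1, qR]; ring

theorem cover_E2 : cover A (E2 A) = F2 A := by
  simp [cover, E2, F2, rR]

theorem cover_E3 : cover A (E3 A) = F3 A := by
  simp [cover, E3, F3, qR]; ring

theorem cover_C22 : cover A (C22 A) = 0 := by
  simp [cover, C22]; ring

theorem cover_det : cover A (detN A) = -(D2 A * D2 A) + X 0 * X 6 * D2 A := by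
  simp [cover, detN, D2, map_ofNat]; ring

noncomputable def rhoMon (α : Fin 8 →₀ ℕ) : P A ⧸ Ideal.span {C22 A} :=
  if α 0 % 2 = α 1 % 2 then Ideal.Quotient.mk _
    (X 0 ^ (α 0 / 2) * X 1 ^ (α 1 / 2) * X 2 ^ (α 0 % 2) * X 3 ^ α 2 * X 4 ^ α 3 * X 5 ^ α 4 *
      X 6 ^ α 5 * X 7 ^ α 6 * X 8 ^ α 7)
  else 0

noncomputable def rho : R A →ₗ[A] P A ⧸ Ideal.span {C22 A} :=
  (MvPolynomial.basisMonomials (Fin 8) A).constr A (rhoMon A)

variable {A}

theorem rho_monomial (α : Fin 8 →₀ ℕ) : rho A (monomial α 1) = rhoMon A α := by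
  rw [rho, show (monomial α (1 : A)) = MvPolynomial.basisMonomials (Fin 8) A α by simp,
    Module.Basis.constr_basis]

theorem rho_mul_X (j : Fin 9) (y : R A) :
    rho A (cover A (X j) * y) = Ideal.Quotient.mk _ (X j) * rho A y := by
  induction y using MvPolynomial.induction_on' with
  | add p q hp hq => rw [mul_add, map_add, map_add, hp, hq, mul_add]
  | monomial α a =>
    rw [show monomial α a = a • monomial α (1 : A) by rw [smul_monomial, smul_eq_mul, mul_one],
      mul_smul_comm, map_smul, map_smul, mul_smul_comm]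
    congr 1
    rw [rho_monomial]
    have hX : ∀ i : Fin 8, (X i : R A) * monomial α 1 = monomial (α + Finsupp.single i 1) 1 := by
      intro i
      rw [X, monomial_mul, one_mul, add_comm]
    have hXX : ∀ i i' : Fin 8, (X i : R A) * X i' * monomial α 1 =
        monomial (α + Finsupp.single i' 1 + Finsupp.single i 1) 1 := by
      intro i i'
      rw [mul_assoc, hX, X, monomial_mul, one_mul, add_comm]
    have hsq : ∀ (x : P A), Ideal.Quotient.mk (Ideal.span {C22 A}) (x * (X 2 * X 2)) =
        Ideal.Quotient.mk _ (x * (X 0 * X 1)) := fun x => by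
      rw [Ideal.Quotient.eq, Ideal.mem_span_singleton]
      exact ⟨-x, by simp only [C22]; ring⟩
    fin_cases j <;>
      simp only [cover, aeval_X, Fin.reduceFinMk, Matrix.cons_val, hXX, hX, rho_monomial, rhoMon,
        Finsupp.add_apply, Finsupp.single_apply, Fin.reduceEq, if_false, if_true, add_zero]
    · rw [show (α 0 + 1 + 1) % 2 = α 0 % 2 by omega, show (α 0 + 1 + 1) / 2 = α 0 / 2 + 1 by omega]
      split_ifs
      · rw [← map_mul]; congr 1; ring
      · rw [mul_zero]
    · rw [show (α 1 + 1 + 1) % 2 = α 1 % 2 by omega, show (α 1 + 1 + 1) / 2 = α 1 / 2 + 1 by omega]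
      split_ifs
      · rw [← map_mul]; congr 1; ring
      · rw [mul_zero]
    · split_ifs with h1 h2 h2
      · rw [← map_mul]
        rcases Nat.mod_two_eq_zero_or_one (α 0) with h | h
        · rw [show (α 0 + 1) % 2 = 1 by omega, show (α 0 + 1) / 2 = α 0 / 2 by omega,
            show (α 1 + 1) / 2 = α 1 / 2 by omega, h]
          congr 1; ring
        · rw [show (α 0 + 1) % 2 = 0 by omega, show (α 0 + 1) / 2 = α 0 / 2 + 1 by omega,
            show (α 1 + 1) / 2 = α 1 / 2 + 1 by omega, h]
          set W : P A := X 0 ^ (α 0 / 2) * X 1 ^ (α 1 / 2) * X 3 ^ α 2 * X 4 ^ α 3 * X 5 ^ α 4 *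
            X 6 ^ α 5 * X 7 ^ α 6 * X 8 ^ α 7 with hW
          exact (congrArg (Ideal.Quotient.mk _) (show _ = W * (X 0 * X 1) by rw [hW]; ring)).trans
            ((hsq W).symm.trans (congrArg (Ideal.Quotient.mk _) (by rw [hW]; ring)))
      · omega
      · omega
      · rw [mul_zero]
    all_goals
      split_ifs
      · rw [← map_mul]; congr 1; ring
      · rw [mul_zero]

theorem rho_mul (x : P A) (y : R A) :
    rho A (cover A x * y) = Ideal.Quotient.mk _ x * rho A y := by
  induction x using MvPolynomial.induction_on generalizing y with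
  | C a =>
    rw [← MvPolynomial.algebraMap_eq, AlgHom.commutes, ← Algebra.smul_def, map_smul,
      Ideal.Quotient.mk_algebraMap, ← Algebra.smul_def]
  | add p q hp hq => rw [map_add, add_mul, map_add, map_add, hp, hq, add_mul]
  | mul_X p j hp => rw [map_mul (cover A), mul_assoc, hp, rho_mul_X, map_mul, mul_assoc]

theorem rho_one : rho A (1 : R A) = 1 := by
  rw [show (1 : R A) = monomial 0 1 by simp, rho_monomial]
  simp [rhoMon]

theorem rho_cover (x : P A) : rho A (cover A x) = Ideal.Quotient.mk _ x := by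
  simpa [rho_one] using rho_mul x (1 : R A)

theorem sub_mem_of_cover_eq {x y : P A} (h : cover A x = cover A y) :
    x - y ∈ Ideal.span {C22 A} := by
  have := congrArg (rho A) h
  rw [rho_cover, rho_cover] at this
  exact Ideal.Quotient.eq.mp this

end coords

end Groth.Agent.Lie3Lib
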