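import Mathlib
import Groth.Agent.Lie3Lib.Cover

set_option autoImplicit false

namespace Groth.Agent.Lie3Lib

open MvPolynomial

variable {A : Type*} [CommRing A]

theorem span_empty_eq {R : Type*} [CommRing R] : Ideal.span (∅ : Set R) = ⊥ := Ideal.span_empty

theorem X_nzd_bot (j : Fin 8) : NZD (⊥ : Ideal (R A)) (X j) := by
  rw [← span_empty_eq]; exact X_nzd j ∅ (by simp)

theorem X_nzd_single {i j : Fin 8} (h : i ≠ j) : NZD (Ideal.span {(X i : R A)}) (X j) :=
  X_nzd j _ (by simp [free_X h])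

theorem X_cancel (j : Fin 8) {y z : R A} (h : X j * y = X j * z) : y = z :=
  sub_eq_zero.mp ((Submodule.mem_bot _).mp (X_nzd_bot j (y - z) ((Submodule.mem_bot _).mpr (by
    rw [mul_sub, h, sub_self]))))

theorem q_nzd_u : NZD (Ideal.span {(X 5 : R A)}) (qR A) := by
  have := linear_nzd' (6 : Fin 8) {(X 5 : R A)} (X 0) (-(X 1 * X 7)) (by simp [free_X]) (free_X (by decide))
    (((free_X (by decide)).mul (free_X (by decide))).neg) (X_nzd_single (by decide))
  exact this.congr (by rw [show qR A - (X 6 * X 0 + -(X 1 * X 7)) = 0 by simp only [qR]; ring]; exact zero_mem _)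

theorem free_qR {j : Fin 8} (h0 : (0 : Fin 8) ≠ j) (h1 : (1 : Fin 8) ≠ j) (h6 : (6 : Fin 8) ≠ j)
    (h7 : (7 : Fin 8) ≠ j) : Free j (qR A) :=
  ((free_X h0).mul (free_X h6)).sub ((free_X h1).mul (free_X h7))

theorem span_pair_eq (a b : R A) : Ideal.span {a, b} = Ideal.span {a} ⊔ Ideal.span {b} :=
  Ideal.span_insert a {b}

theorem v_nzd_uq : NZD (Ideal.span {X 5, qR A}) (X 6 : R A) := by
  rw [span_pair_eq]
  refine NZD.swap (X_nzd_single (by decide)) ?_
  rw [← span_pair_eq]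
  have h : NZD (Ideal.span {(X 5 : R A), X 6}) (-(X 1 * X 7)) :=
    ((X_nzd 1 _ (by simp [free_X])).mul (X_nzd 7 _ (by simp [free_X]))).neg
  refine h.congr ?_
  rw [show qR A - -(X 1 * X 7) = X 0 * X 6 by simp only [qR]; ring]
  exact Ideal.mul_mem_left _ _ (Ideal.subset_span (by simp))

theorem t_nzd_uq : NZD (Ideal.span {X 5, qR A}) (X 1 : R A) := by
  rw [span_pair_eq]
  refine NZD.swap (X_nzd_single (by decide)) ?_
  rw [← span_pair_eq]
  have h : NZD (Ideal.span {(X 5 : R A), X 1}) (X 0 * X 6) :=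
    (X_nzd 0 _ (by simp [free_X])).mul (X_nzd 6 _ (by simp [free_X]))
  refine h.congr ?_
  rw [show qR A - X 0 * X 6 = -(X 7) * X 1 by simp only [qR]; ring]
  exact Ideal.mul_mem_left _ _ (Ideal.subset_span (by simp))

theorem free_uq : ∀ s ∈ ({X 5, qR A} : Set (R A)), Free (2 : Fin 8) s := by
  rintro s (rfl | rfl)
  · exact free_X (by decide)
  · exact free_qR (by decide) (by decide) (by decide) (by decide)

theorem r_nzd_uq : NZD (Ideal.span {X 5, qR A}) (rR A) :=
  linear_nzd' (2 : Fin 8) _ (X 6) ((X 4 - X 6) * X 7) free_uq (free_X (by decide))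
    (((free_X (by decide)).sub (free_X (by decide))).mul (free_X (by decide))) v_nzd_uq

theorem D2_nzd_uq : NZD (Ideal.span {X 5, qR A}) (D2 A) :=
  linear_nzd' (2 : Fin 8) _ (X 1) (X 4 * X 0) free_uq (free_X (by decide))
    ((free_X (by decide)).mul (free_X (by decide))) t_nzd_uq

theorem F13_le_uq : Ideal.span {F1 A, F3 A} ≤ Ideal.span {X 5, qR A} := by
  rw [Ideal.span_le]
  rintro x (rfl | rfl) <;> simp only [SetLike.mem_coe, F1, F3, Ideal.mem_span_pair]
  · exact ⟨X 2, -X 0, by ring⟩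
  · exact ⟨X 4, X 1, by ring⟩

/-- The annihilator of `u` modulo the two equations is generated by `D2`. -/
theorem claim {y : R A} (h : X 5 * y ∈ Ideal.span {F1 A, F3 A}) :
    ∃ i z, i ∈ Ideal.span {F1 A, F3 A} ∧ y = i + z * D2 A := by
  obtain ⟨a, b, hab⟩ := Ideal.mem_span_pair.mp h
  simp only [F1, F3] at hab
  have h1 : X 0 * a - X 1 * b ∈ Ideal.span {(X 5 : R A)} := q_nzd_u _
    (Ideal.mem_span_singleton'.mpr ⟨a * X 2 + b * X 4 - y, by linear_combination hab⟩)
  obtain ⟨τ, hτ⟩ := Ideal.mem_span_singleton'.mp h1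
  have hy : y = a * X 2 + b * X 4 - qR A * τ := X_cancel 5 (by
    linear_combination -hab + qR A * hτ)
  have h2 : b ∈ Ideal.span {(X 0 : R A), X 5} :=
    X_nzd 1 _ (by simp [free_X]) _ (Ideal.mem_span_pair.mpr ⟨a, -τ, by linear_combination -hτ⟩)
  obtain ⟨σ, β, hb⟩ := Ideal.mem_span_pair.mp h2
  have h3 : a - X 1 * σ ∈ Ideal.span {(X 5 : R A)} := X_nzd_single (by decide : (5 : Fin 8) ≠ 0) _
    (Ideal.mem_span_singleton'.mpr ⟨τ + X 1 * β, by linear_combination hτ + X 1 * hb⟩)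
  obtain ⟨α, ha⟩ := Ideal.mem_span_singleton'.mp h3
  have hτ' : τ = X 0 * α - X 1 * β := X_cancel 5 (by
    linear_combination hτ + X 1 * hb - X 0 * ha)
  refine ⟨α * F1 A + β * F3 A, σ, Ideal.mem_span_pair.mpr ⟨α, β, rfl⟩, ?_⟩
  simp only [F1, F3, D2]
  linear_combination hy - X 2 * ha - X 4 * hb - qR A * hτ'

theorem F2_nzd : NZD (Ideal.span {F1 A, F3 A}) (F2 A) := by
  have hfree : ∀ s ∈ ({F1 A, F3 A} : Set (R A)), Free (3 : Fin 8) s := by
    have hq : Free (3 : Fin 8) (qR A) := free_qR (by decide) (by decide) (by decide) (by decide)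
    rintro s (rfl | rfl)
    · exact ((free_X (by decide)).mul (free_X (by decide))).sub ((free_X (by decide)).mul hq)
    · exact ((free_X (by decide)).mul (free_X (by decide))).add ((free_X (by decide)).mul hq)
  refine linear_nzd (3 : Fin 8) _ (X 5) (rR A) hfree (free_X (by decide))
    (((free_X (by decide)).mul (free_X (by decide))).add
      (((free_X (by decide)).sub (free_X (by decide))).mul (free_X (by decide)))) ?_
  intro x y hy hxy
  obtain ⟨i, z, hi, rfl⟩ := claim hy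
  have h1 : D2 A * z ∈ Ideal.span {X 5, qR A} := by
    refine r_nzd_uq _ ?_
    have hu : (X 5 : R A) ∈ Ideal.span {X 5, qR A} := Ideal.subset_span (by simp)
    rw [show rR A * (D2 A * z) = (X 5 * x + rR A * (i + z * D2 A)) - X 5 * x - rR A * i by ring]
    exact sub_mem (sub_mem (F13_le_uq hxy) (Ideal.mul_mem_right _ _ hu))
      (Ideal.mul_mem_left _ _ (F13_le_uq hi))
  obtain ⟨c, d, hcd⟩ := Ideal.mem_span_pair.mp (D2_nzd_uq z h1)
  refine add_mem hi (Ideal.mem_span_pair.mpr ⟨c * X 1 - d * X 4, c * X 0 + d * X 2, ?_⟩)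
  simp only [F1, F3, D2] at *
  linear_combination (X 2 * X 1 + X 4 * X 0) * hcd

theorem F1_nzd : NZD (⊥ : Ideal (R A)) (F1 A) := by
  rw [← span_empty_eq]
  have hq : Free (2 : Fin 8) (qR A) := free_qR (by decide) (by decide) (by decide) (by decide)
  have := linear_nzd' (2 : Fin 8) ∅ (X 5 : R A) (-(X 0 * qR A)) (by simp) (free_X (by decide))
    ((free_X (by decide)).mul hq).neg (by rw [span_empty_eq]; exact X_nzd_bot 5)
  exact this.congr (by
    rw [show F1 A - (X 2 * X 5 + -(X 0 * qR A)) = 0 by simp only [F1]; ring]; exact zero_mem _)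

theorem u_nzd_F1 : NZD (Ideal.span {F1 A}) (X 5 : R A) := by
  have h1 : NZD ((⊥ : Ideal (R A)) ⊔ Ideal.span {(X 5 : R A)}) (F1 A) := by
    rw [bot_sup_eq]
    refine ((X_nzd_single (by decide : (5 : Fin 8) ≠ 0)).mul q_nzd_u).neg.congr ?_
    rw [show F1 A - -(X 0 * qR A) = X 2 * X 5 by simp only [F1]; ring]
    exact Ideal.mul_mem_left _ _ (Ideal.mem_span_singleton_self _)
  simpa using NZD.swap (X_nzd_bot (A := A) 5) h1

theorem F3_nzd : NZD (Ideal.span {F1 A}) (F3 A) := by
  have hq : Free (4 : Fin 8) (qR A) := free_qR (by decide) (by decide) (by decide) (by decide)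
  refine linear_nzd' (4 : Fin 8) _ (X 5) (X 1 * qR A) ?_ (free_X (by decide))
    ((free_X (by decide)).mul hq) u_nzd_F1
  rintro s rfl
  exact ((free_X (by decide)).mul (free_X (by decide))).sub ((free_X (by decide)).mul hq)

theorem koszul {a b c : R A} (h : a * F1 A + b * F2 A + c * F3 A = 0) :
    ∃ k l m, a = k * F2 A + l * F3 A ∧ b = -(k * F1 A) + m * F3 A ∧
      c = -(l * F1 A) - m * F2 A := by
  obtain ⟨k', m, hb⟩ := Ideal.mem_span_pair.mp
    (F2_nzd b (Ideal.mem_span_pair.mpr ⟨-a, -c, by linear_combination -h⟩))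
  obtain ⟨n, hn⟩ := Ideal.mem_span_singleton'.mp (F3_nzd (c + m * F2 A)
    (Ideal.mem_span_singleton'.mpr ⟨-(a + k' * F2 A), by linear_combination -h - F2 A * hb⟩))
  refine ⟨-k', -n, m, ?_, by linear_combination -hb, by linear_combination -hn⟩
  have h1 : F1 A * ((a + k' * F2 A) + n * F3 A) = 0 := by
    linear_combination h + F2 A * hb + F3 A * hn
  have := (Submodule.mem_bot _).mp (F1_nzd _ ((Submodule.mem_bot _).mpr h1))
  linear_combination this

end Groth.Agent.Lie3Lib
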