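import Mathlib
import Groth.Agent.Lie3Lib.Regular

set_option autoImplicit false

namespace Groth.Agent.Lie3Lib

open MvPolynomial

variable (A : Type*) [CommRing A]

noncomputable def IN : Ideal (P A) := Ideal.span {E1 A, E2 A, E3 A}
noncomputable def LN : Ideal (P A) := Ideal.span {X 6, X 7, X 8}
noncomputable def JN : Ideal (P A) := Ideal.span {E1 A, E2 A, E3 A, detN A}

variable {A}

theorem mem_IN {x : P A} : x ∈ IN A ↔ ∃ a b c, a * E1 A + b * E2 A + c * E3 A = x := by
  constructor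
  · intro h
    obtain ⟨a, z, hz, rfl⟩ := Ideal.mem_span_insert.mp h
    obtain ⟨b, c, rfl⟩ := Ideal.mem_span_pair.mp hz
    exact ⟨a, b, c, by ring⟩
  · rintro ⟨a, b, c, rfl⟩
    refine add_mem (add_mem ?_ ?_) ?_ <;> exact Ideal.mul_mem_left _ _ (Ideal.subset_span (by simp))

theorem IN_le_JN : IN A ≤ JN A := Ideal.span_mono (by
  intro x hx; simp only [Set.mem_insert_iff, Set.mem_singleton_iff] at hx ⊢; tauto)

theorem det_mem_JN : detN A ∈ JN A := Ideal.subset_span (by simp)

theorem JN_eq : JN A = IN A ⊔ Ideal.span {detN A} := by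
  rw [JN, IN, ← Ideal.span_union]; congr 1; ext x; simp; tauto

theorem IN_le_LN : IN A ≤ LN A := by
  have h : ∀ a b c : P A, a * X 6 + b * X 7 + c * X 8 ∈ LN A := fun a b c => by
    refine add_mem (add_mem ?_ ?_) ?_ <;> exact Ideal.mul_mem_left _ _ (Ideal.subset_span (by simp))
  rw [IN, Ideal.span_le]
  rintro x (rfl | rfl | rfl)
  · rw [show E1 A = X 3 * X 6 + -X 0 * X 7 + X 2 * X 8 by simp only [E1]; ring]; exact h _ _ _
  · rw [show E2 A = X 4 * X 6 + X 3 * X 7 + (X 5 - X 7) * X 8 by simp only [E2]; ring]; exact h _ _ _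
  · rw [show E3 A = X 5 * X 6 + X 2 * X 7 + -X 1 * X 8 by simp only [E3]; ring]; exact h _ _ _

theorem mul_LN_le {l : P A} (hl : l ∈ LN A) : detN A * l ∈ IN A := by
  induction hl using Submodule.span_induction with
  | zero => simp
  | add x y _ _ hx hy => rw [mul_add]; exact add_mem hx hy
  | smul c x _ hx =>
    rw [smul_eq_mul, mul_left_comm]; exact Ideal.mul_mem_left _ _ hx
  | mem x hx =>
    rcases hx with rfl | rfl | rfl <;> rw [mem_IN]
    · exact ⟨-(X 3 * X 1) + (X 7 - X 5) * X 2, -(X 0 * X 1 - X 2 * X 2),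
        -(-(X 0 * (X 7 - X 5)) + X 3 * X 2), by simp only [E1, E2, E3, detN]; ring⟩
    · exact ⟨X 4 * X 1 - (X 7 - X 5) * X 5, -(X 3 * X 1 + X 2 * X 5),
        X 3 * (X 7 - X 5) + X 2 * X 4, by simp only [E1, E2, E3, detN]; ring⟩
    · exact ⟨X 4 * X 2 - X 3 * X 5, -(X 3 * X 2 + X 0 * X 5),
        X 3 * X 3 + X 0 * X 4, by simp only [E1, E2, E3, detN]; ring⟩

theorem C22_nzd : NZD (⊥ : Ideal (P A)) (C22 A) := by
  rw [← Ideal.span_empty]
  have h1 : NZD (Ideal.span (∅ : Set (P A))) (X 1) := X_nzd 1 ∅ (by simp)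
  have := linear_nzd' (0 : Fin 9) ∅ (X 1 : P A) (-(X 2 * X 2)) (by simp) (free_X (by decide))
    ((free_X (by decide)).mul (free_X (by decide))).neg h1
  exact this.congr (by
    rw [show C22 A - (X 0 * X 1 + -(X 2 * X 2)) = 0 by simp only [C22]; ring]; exact zero_mem _)

theorem C22_cancel {y : P A} (h : C22 A * y = 0) : y = 0 :=
  (Submodule.mem_bot _).mp (C22_nzd y ((Submodule.mem_bot _).mpr h))

theorem C22_nzd_IN : NZD (IN A) (C22 A) := by
  intro y hy
  obtain ⟨a, b, c, habc⟩ := mem_IN.mp hy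
  have h0 : cover A a * F1 A + cover A b * F2 A + cover A c * F3 A = 0 := by
    rw [← cover_E1, ← cover_E2, ← cover_E3, ← map_mul, ← map_mul, ← map_mul, ← map_add,
      ← map_add, habc, map_mul, cover_C22, zero_mul]
  obtain ⟨k, l, m, ha, hb, hc⟩ := koszul h0
  obtain ⟨k0, hk0⟩ := Ideal.Quotient.mk_surjective (rho A k)
  obtain ⟨l0, hl0⟩ := Ideal.Quotient.mk_surjective (rho A l)
  obtain ⟨m0, hm0⟩ := Ideal.Quotient.mk_surjective (rho A m)
  have ha' : a - (k0 * E2 A + l0 * E3 A) ∈ Ideal.span {C22 A} := by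
    rw [← Ideal.Quotient.eq, ← rho_cover, ha, ← cover_E2, ← cover_E3, mul_comm k, mul_comm l,
      map_add (rho A), rho_mul, rho_mul, ← hk0, ← hl0, map_add, map_mul, map_mul]
    ring
  have hb' : b - (-(k0 * E1 A) + m0 * E3 A) ∈ Ideal.span {C22 A} := by
    rw [← Ideal.Quotient.eq, ← rho_cover, hb, ← cover_E1, ← cover_E3, mul_comm k, mul_comm m,
      map_add (rho A), map_neg (rho A), rho_mul, rho_mul, ← hk0, ← hm0, map_add, map_neg, map_mul,
      map_mul]
    ring
  have hc' : c - (-(l0 * E1 A) - m0 * E2 A) ∈ Ideal.span {C22 A} := by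
    rw [← Ideal.Quotient.eq, ← rho_cover, hc, ← cover_E1, ← cover_E2, mul_comm l, mul_comm m,
      map_sub (rho A), map_neg (rho A), rho_mul, rho_mul, ← hl0, ← hm0, map_sub, map_neg, map_mul,
      map_mul]
    ring
  obtain ⟨a1, ha1⟩ := Ideal.mem_span_singleton'.mp ha'
  obtain ⟨b1, hb1⟩ := Ideal.mem_span_singleton'.mp hb'
  obtain ⟨c1, hc1⟩ := Ideal.mem_span_singleton'.mp hc'
  have : y = a1 * E1 A + b1 * E2 A + c1 * E3 A := sub_eq_zero.mp (C22_cancel (by
    linear_combination -habc - E1 A * ha1 - E2 A * hb1 - E3 A * hc1))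
  exact mem_IN.mpr ⟨a1, b1, c1, this.symm⟩

theorem cover_det_nzd : NZD (Ideal.span {X 5, X 6, X 7}) (cover A (detN A)) := by
  have hD : NZD (Ideal.span {X 5, X 6, X 7}) (D2 A) :=
    linear_nzd' (2 : Fin 8) _ (X 1) (X 4 * X 0) (by simp [free_X]) (free_X (by decide))
      ((free_X (by decide)).mul (free_X (by decide))) (X_nzd 1 _ (by simp [free_X]))
  refine (hD.mul hD).neg.congr ?_
  rw [cover_det, show -(D2 A * D2 A) + X 0 * X 6 * D2 A - -(D2 A * D2 A) = X 0 * D2 A * X 6 by ring]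
  exact Ideal.mul_mem_left _ _ (Ideal.subset_span (by simp))

theorem C22_nzd_JN : NZD (JN A) (C22 A) := by
  intro x hx
  rw [JN_eq] at hx
  obtain ⟨i, hi, b, hb, hib⟩ := Submodule.mem_sup.mp hx
  obtain ⟨y, rfl⟩ := Ideal.mem_span_singleton'.mp hb
  have hcov : ∀ z ∈ LN A, cover A z ∈ Ideal.span {X 5, X 6, X 7} := by
    intro z hz
    have h1 := Ideal.mem_map_of_mem (cover A).toRingHom hz
    rw [LN, Ideal.map_span] at h1
    refine Ideal.span_mono ?_ h1
    rintro _ ⟨w, (rfl | rfl | rfl), rfl⟩ <;> simp [cover]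
  have h1 : cover A y ∈ Ideal.span {X 5, X 6, X 7} := cover_det_nzd _ (by
    rw [show cover A (detN A) * cover A y = -cover A i by
      have := congrArg (cover A) hib
      rw [map_add, map_mul, map_mul, cover_C22, zero_mul] at this
      linear_combination this]
    exact neg_mem (hcov _ (IN_le_LN hi)))
  obtain ⟨α, z, hz, hy⟩ := Ideal.mem_span_insert.mp h1
  obtain ⟨β, γ, rfl⟩ := Ideal.mem_span_pair.mp hz
  obtain ⟨α0, hα0⟩ := Ideal.Quotient.mk_surjective (rho A α)
  obtain ⟨β0, hβ0⟩ := Ideal.Quotient.mk_surjective (rho A β)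
  obtain ⟨γ0, hγ0⟩ := Ideal.Quotient.mk_surjective (rho A γ)
  have hy' : y - (α0 * X 6 + (β0 * X 7 + γ0 * X 8)) ∈ Ideal.span {C22 A} := by
    rw [← Ideal.Quotient.eq, ← rho_cover, hy,
      show (X 5 : R A) = cover A (X 6) by simp [cover],
      show (X 6 : R A) = cover A (X 7) by simp [cover],
      show (X 7 : R A) = cover A (X 8) by simp [cover],
      mul_comm α, mul_comm β, mul_comm γ, map_add (rho A), map_add (rho A), rho_mul, rho_mul,
      rho_mul, ← hα0, ← hβ0, ← hγ0, map_add, map_add, map_mul, map_mul, map_mul]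
    ring
  obtain ⟨y', hy''⟩ := Ideal.mem_span_singleton'.mp hy'
  set l := α0 * X 6 + (β0 * X 7 + γ0 * X 8) with hl
  have hlL : l ∈ LN A := by
    refine add_mem ?_ (add_mem ?_ ?_) <;> exact Ideal.mul_mem_left _ _ (Ideal.subset_span (by simp))
  have h2 : x - y' * detN A ∈ IN A := C22_nzd_IN _ (by
    rw [show C22 A * (x - y' * detN A) = i + detN A * l by
      linear_combination -hib - detN A * hy'']
    exact add_mem hi (mul_LN_le hlL))
  rw [show x = (x - y' * detN A) + y' * detN A by ring]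
  exact add_mem (IN_le_JN h2) (Ideal.mul_mem_left _ _ det_mem_JN)

theorem det_nzd_LN : NZD (LN A) (detN A) := by
  have hα : NZD (LN A) (X 2 * X 2 - X 0 * X 1) := by
    have := linear_nzd' (0 : Fin 9) {X 6, X 7, X 8} (-(X 1) : P A) (X 2 * X 2) (by simp [free_X])
      (free_X (by decide)).neg ((free_X (by decide)).mul (free_X (by decide)))
      (X_nzd 1 _ (by simp [free_X])).neg
    exact this.congr (by
      rw [show X 2 * X 2 - X 0 * X 1 - (X 0 * -(X 1) + X 2 * X 2) = (0 : P A) by ring]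
      exact zero_mem _)
  refine (linear_nzd' (4 : Fin 9) {X 6, X 7, X 8} (X 2 * X 2 - X 0 * X 1 : P A)
    (-(X 1 * X 3 * X 3) - X 0 * X 5 * X 5 - (X 3 * X 2 * X 5 + X 3 * X 2 * X 5))
    (by simp [free_X]) ?_ ?_ hα).congr ?_
  · exact ((free_X (by decide)).mul (free_X (by decide))).sub
      ((free_X (by decide)).mul (free_X (by decide)))
  · exact ((((free_X (by decide)).mul (free_X (by decide))).mul (free_X (by decide))).neg.sub
      (((free_X (by decide)).mul (free_X (by decide))).mul (free_X (by decide)))).sub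
      ((((free_X (by decide)).mul (free_X (by decide))).mul (free_X (by decide))).add
      (((free_X (by decide)).mul (free_X (by decide))).mul (free_X (by decide))))
  · rw [show detN A - (X 4 * (X 2 * X 2 - X 0 * X 1) + (-(X 1 * X 3 * X 3) - X 0 * X 5 * X 5 -
        (X 3 * X 2 * X 5 + X 3 * X 2 * X 5))) = (X 0 * X 5 + X 3 * X 2) * X 7 by
      simp only [detN]; ring]
    exact Ideal.mul_mem_left _ _ (Ideal.subset_span (by simp))

theorem IN_eq_inf : IN A = JN A ⊓ LN A := by
  refine le_antisymm (le_inf IN_le_JN IN_le_LN) fun x hx => ?_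
  obtain ⟨h1, h2⟩ := Ideal.mem_inf.mp hx
  rw [JN_eq] at h1
  obtain ⟨i, hi, b, hb, hib⟩ := Submodule.mem_sup.mp h1
  obtain ⟨y, rfl⟩ := Ideal.mem_span_singleton'.mp hb
  have hy : y ∈ LN A := det_nzd_LN y (by
    rw [show detN A * y = x - i by linear_combination hib]; exact sub_mem h2 (IN_le_LN hi))
  rw [← hib, mul_comm y]
  exact add_mem hi (mul_LN_le hy)

end Groth.Agent.Lie3Lib
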