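import Mathlib
import Groth.Agent.Lie3Lib.Main
import Groth.Prelude.Def_W4c1bouilletffgsL3

set_option autoImplicit false

namespace Groth.Agent.Lie3Lib

open MvPolynomial

variable {A : Type*} [CommRing A]

abbrev S (A : Type*) [CommRing A] := Localization.Away (C22 A)

theorem powers_le : Submonoid.powers (C22 A) ≤ nonZeroDivisors (P A) := by
  refine (Submonoid.powers_le).mpr ?_
  rw [mem_nonZeroDivisors_iff_right]
  intro x hx
  exact C22_cancel (by rw [mul_comm]; exact hx)

theorem algMap_injective : Function.Injective (algebraMap (P A) (S A)) :=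
  IsLocalization.injective _ powers_le

noncomputable def Cinv (A : Type*) [CommRing A] : S A := IsLocalization.Away.invSelf (C22 A)

theorem C_mul_inv : algebraMap (P A) (S A) (C22 A) * Cinv A = 1 :=
  IsLocalization.Away.mul_invSelf (C22 A)

noncomputable def vNum (A : Type*) [CommRing A] : P A := X 6 * (X 3 * X 1 + X 2 * X 5)
noncomputable def wNum (A : Type*) [CommRing A] : P A := X 6 * (X 0 * X 5 + X 3 * X 2)
noncomputable def eNum (A : Type*) [CommRing A] : P A :=
  -(X 1 * X 3 * X 3) - X 0 * X 5 * X 5 - 2 * (X 3 * X 2 * X 5)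

/-- The parametrisation of the main component over the locus where `C22` is invertible. -/
noncomputable def param (A : Type*) [CommRing A] : P A →ₐ[A] S A :=
  aeval fun j : Fin 9 =>
    if j = 7 then algebraMap (P A) (S A) (vNum A) * Cinv A
    else if j = 8 then algebraMap (P A) (S A) (wNum A) * Cinv A
    else if j = 4 then (algebraMap (P A) (S A) (eNum A) + algebraMap (P A) (S A) (vNum A) * Cinv A *
        algebraMap (P A) (S A) (X 0 * X 5 + X 3 * X 2)) * Cinv A
    else algebraMap (P A) (S A) (X j)

theorem param_X {j : Fin 9} (h7 : j ≠ 7) (h8 : j ≠ 8) (h4 : j ≠ 4) :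
    param A (X j) = algebraMap (P A) (S A) (X j) := by
  simp [param, h7, h8, h4]

theorem param_X7 : param A (X 7) = algebraMap (P A) (S A) (vNum A) * Cinv A := by simp [param]

theorem param_X8 : param A (X 8) = algebraMap (P A) (S A) (wNum A) * Cinv A := by simp [param]

theorem param_X4 : param A (X 4) = (algebraMap (P A) (S A) (eNum A) +
    algebraMap (P A) (S A) (vNum A) * Cinv A *
      algebraMap (P A) (S A) (X 0 * X 5 + X 3 * X 2)) * Cinv A := by simp [param]

theorem param_C22 : param A (C22 A) = algebraMap (P A) (S A) (C22 A) := by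
  simp only [C22, map_sub, map_mul, param_X (A := A) (j := 0) (by decide) (by decide) (by decide),
    param_X (A := A) (j := 1) (by decide) (by decide) (by decide),
    param_X (A := A) (j := 2) (by decide) (by decide) (by decide)]

theorem C_cancelS {x : S A} (h : algebraMap (P A) (S A) (C22 A) * x = 0) : x = 0 := by
  linear_combination Cinv A * h - x * C_mul_inv (A := A)

theorem JN_le_ker : JN A ≤ RingHom.ker (param A) := by
  have h := C_mul_inv (A := A)
  simp only [C22, map_sub, map_mul] at h
  have p0 := param_X (A := A) (j := 0) (by decide) (by decide) (by decide)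
  have p1 := param_X (A := A) (j := 1) (by decide) (by decide) (by decide)
  have p2 := param_X (A := A) (j := 2) (by decide) (by decide) (by decide)
  have p3 := param_X (A := A) (j := 3) (by decide) (by decide) (by decide)
  have p5 := param_X (A := A) (j := 5) (by decide) (by decide) (by decide)
  have p6 := param_X (A := A) (j := 6) (by decide) (by decide) (by decide)
  rw [JN, Ideal.span_le]
  rintro x (rfl | rfl | rfl | rfl) <;> rw [SetLike.mem_coe, RingHom.mem_ker] <;>
    apply C_cancelS <;> apply C_cancelS <;>
    simp only [E1, E2, E3, detN, C22, vNum, wNum, eNum, map_add, map_sub, map_mul, map_neg,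
      map_ofNat, p0, p1, p2, p3, p5, p6, param_X7, param_X8, param_X4] <;>
    generalize algebraMap (P A) (S A) (X 0) = g at h ⊢ <;>
    generalize algebraMap (P A) (S A) (X 1) = c at h ⊢ <;>
    generalize algebraMap (P A) (S A) (X 2) = i at h ⊢ <;>
    generalize algebraMap (P A) (S A) (X 3) = hh at h ⊢ <;>
    generalize algebraMap (P A) (S A) (X 5) = f at h ⊢ <;>
    generalize algebraMap (P A) (S A) (X 6) = u at h ⊢ <;>
    generalize Cinv A = k at h ⊢
  · linear_combination ((g * c - i * i) * (-g * (u * (hh * c + i * f)) + i * (u * (g * f + hh * i)))) * h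
  · ring
  · linear_combination ((g * c - i * i) * (i * (u * (hh * c + i * f)) - c * (u * (g * f + hh * i)))) * h
  · linear_combination (-((g * c - i * i) * (g * c - i * i) *
      ((-(c * hh * hh) - g * f * f - 2 * (hh * i * f)) +
        k * (u * (hh * c + i * f)) * (g * f + hh * i)))) * h

theorem ker_param : RingHom.ker (param A) = JN A := by
  refine le_antisymm (fun x hx => ?_) JN_le_ker
  have key : ∀ x : P A, ∃ (n : ℕ) (p : P A), C22 A ^ n * x - p ∈ JN A ∧
      param A p = algebraMap (P A) (S A) p := by
    intro x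
    induction x using MvPolynomial.induction_on with
    | C a =>
      refine ⟨0, C a, by simp, ?_⟩
      rw [← MvPolynomial.algebraMap_eq, AlgHom.commutes, ← IsScalarTower.algebraMap_apply]
    | add x y hx hy =>
      obtain ⟨n, p, hp, hp'⟩ := hx
      obtain ⟨m, q, hq, hq'⟩ := hy
      refine ⟨n + m, C22 A ^ m * p + C22 A ^ n * q, ?_, ?_⟩
      · rw [show C22 A ^ (n + m) * (x + y) - (C22 A ^ m * p + C22 A ^ n * q) =
          C22 A ^ m * (C22 A ^ n * x - p) + C22 A ^ n * (C22 A ^ m * y - q) by ring]
        exact add_mem (Ideal.mul_mem_left _ _ hp) (Ideal.mul_mem_left _ _ hq)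
      · simp only [map_add, map_mul, map_pow, hp', hq', param_C22]
    | mul_X x j hx =>
      obtain ⟨n, p, hp, hp'⟩ := hx
      have hX : ∃ (m : ℕ) (q : P A), C22 A ^ m * X j - q ∈ JN A ∧
          param A q = algebraMap (P A) (S A) q := by
        have hv : C22 A * X 7 - vNum A ∈ JN A := IN_le_JN (mem_IN.mpr
          ⟨-(X 1), 0, -(X 2), by simp only [C22, vNum, E1, E3]; ring⟩)
        have hw : C22 A * X 8 - wNum A ∈ JN A := IN_le_JN (mem_IN.mpr
          ⟨-(X 2), 0, -(X 0), by simp only [C22, wNum, E1, E3]; ring⟩)
        have pv : param A (vNum A) = algebraMap (P A) (S A) (vNum A) := by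
          simp only [vNum, map_mul, map_add]
          simp (disch := decide) only [param_X]
        have pg : param A (X 0 * X 5 + X 3 * X 2) = algebraMap (P A) (S A) (X 0 * X 5 + X 3 * X 2) := by
          simp only [map_mul, map_add]
          simp (disch := decide) only [param_X]
        by_cases h7 : j = 7
        · subst h7
          exact ⟨1, vNum A, by rwa [pow_one], pv⟩
        by_cases h8 : j = 8
        · subst h8
          refine ⟨1, wNum A, by rwa [pow_one], ?_⟩
          simp only [wNum, map_mul, map_add]
          simp (disch := decide) only [param_X]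
        by_cases h4 : j = 4
        · subst h4
          refine ⟨2, eNum A * C22 A + vNum A * (X 0 * X 5 + X 3 * X 2), ?_, ?_⟩
          · rw [show C22 A ^ 2 * X 4 - (eNum A * C22 A + vNum A * (X 0 * X 5 + X 3 * X 2)) =
              -C22 A * detN A + (X 0 * X 5 + X 3 * X 2) * (C22 A * X 7 - vNum A) by
              simp only [C22, eNum, detN, vNum]; ring]
            exact add_mem (Ideal.mul_mem_left _ _ det_mem_JN) (Ideal.mul_mem_left _ _ hv)
          · simp only [map_add (param A), map_mul (param A), param_C22, pv]
            rw [show param A (eNum A) = algebraMap (P A) (S A) (eNum A) by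
              simp only [eNum, map_mul, map_sub, map_neg, map_ofNat]
              simp (disch := decide) only [param_X]]
            simp only [map_add, map_mul]
            simp (disch := decide) only [param_X]
        · exact ⟨0, X j, by simp, param_X h7 h8 h4⟩
      obtain ⟨m, q, hq, hq'⟩ := hX
      refine ⟨n + m, p * q, ?_, by simp only [map_mul, hp', hq']⟩
      rw [show C22 A ^ (n + m) * (x * X j) - p * q =
        C22 A ^ m * X j * (C22 A ^ n * x - p) + p * (C22 A ^ m * X j - q) by ring]
      exact add_mem (Ideal.mul_mem_left _ _ hp) (Ideal.mul_mem_left _ _ hq)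
  obtain ⟨n, p, hp, hp'⟩ := key x
  have h0 : param A (C22 A ^ n * x - p) = 0 := JN_le_ker hp
  rw [RingHom.mem_ker] at hx
  rw [map_sub, map_mul, hx, mul_zero, zero_sub, neg_eq_zero, hp'] at h0
  rw [(algMap_injective (A := A)) (h0.trans (map_zero _).symm), sub_zero] at hp
  have : ∀ n, C22 A ^ n * x ∈ JN A → x ∈ JN A := by
    intro n
    induction n with
    | zero => simp
    | succ n ih => exact fun h => ih (C22_nzd_JN _ (by rwa [pow_succ', mul_assoc] at h))
  exact this n hp

theorem u_nzd_JN : NZD (JN A) (X 6) := by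
  intro x hx
  rw [← ker_param, RingHom.mem_ker, map_mul, param_X (by decide) (by decide) (by decide)] at hx
  rw [← ker_param, RingHom.mem_ker]
  obtain ⟨⟨a, s⟩, hs⟩ := IsLocalization.surj (Submonoid.powers (C22 A)) (param A x)
  have ha : algebraMap (P A) (S A) (X 6 * a) = 0 := by
    rw [map_mul, ← hs, ← mul_assoc, hx, zero_mul]
  have ha' : a = 0 := (Submodule.mem_bot (P A)).mp
    ((Ideal.span_empty (α := P A)) ▸ X_nzd 6 ∅ (by simp) a (by
      rw [Ideal.span_empty, Submodule.mem_bot]
      exact algMap_injective (ha.trans (map_zero _).symm)))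
  rw [ha', map_zero] at hs
  have hu := IsLocalization.map_units (S A) s
  exact (hu.mul_left_eq_zero).mp hs

theorem colon_LN : (IN A).colon (LN A : Set (P A)) = JN A := by
  refine le_antisymm (fun x hx => u_nzd_JN x (IN_le_JN ?_)) fun x hx => ?_
  · rw [mul_comm]
    exact Submodule.mem_colon.mp hx (X 6) (Ideal.subset_span (by simp) : (X 6 : P A) ∈ LN A)
  · rw [Submodule.mem_colon]
    intro l hl
    rw [smul_eq_mul]
    rw [JN_eq] at hx
    obtain ⟨i, hi, b, hb, rfl⟩ := Submodule.mem_sup.mp hx
    obtain ⟨y, rfl⟩ := Ideal.mem_span_singleton'.mp hb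
    rw [add_mul, mul_assoc]
    exact add_mem (Ideal.mul_mem_right _ _ hi) (Ideal.mul_mem_left _ _ (mul_LN_le hl))

theorem colon_JN : (IN A).colon (JN A : Set (P A)) = LN A := by
  refine le_antisymm (fun x hx => det_nzd_LN x (IN_le_LN ?_)) fun x hx => ?_
  · rw [mul_comm]
    exact Submodule.mem_colon.mp hx (detN A) det_mem_JN
  · rw [Submodule.mem_colon]
    intro j hj
    rw [smul_eq_mul]
    rw [JN_eq] at hj
    obtain ⟨i, hi, b, hb, rfl⟩ := Submodule.mem_sup.mp hj
    obtain ⟨y, rfl⟩ := Ideal.mem_span_singleton'.mp hb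
    rw [mul_add, mul_comm y, ← mul_assoc, mul_comm x (detN A)]
    exact add_mem (Ideal.mul_mem_left _ _ hi) (Ideal.mul_mem_right _ _ (mul_LN_le hx))

noncomputable def killL (A : Type*) [CommRing A] : P A →ₐ[A] P A :=
  aeval fun j : Fin 9 => if j = 6 ∨ j = 7 ∨ j = 8 then 0 else X j

theorem ker_killL : RingHom.ker (killL A) = LN A := by
  refine le_antisymm (fun x hx => ?_) ?_
  · have h : ∀ x : P A, x - killL A x ∈ LN A := by
      intro x
      induction x using MvPolynomial.induction_on with
      | C a => simp [killL]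
      | add x y hx hy =>
        rw [map_add, show x + y - (killL A x + killL A y) = (x - killL A x) + (y - killL A y) by ring]
        exact add_mem hx hy
      | mul_X x j hx =>
        rw [map_mul, show x * X j - killL A x * killL A (X j) =
          X j * (x - killL A x) + killL A x * (X j - killL A (X j)) by ring]
        refine add_mem (Ideal.mul_mem_left _ _ hx) (Ideal.mul_mem_left _ _ ?_)
        by_cases hj : j = 6 ∨ j = 7 ∨ j = 8
        · rw [show killL A (X j) = 0 by simp [killL, hj], sub_zero]
          exact Ideal.subset_span (by rcases hj with rfl | rfl | rfl <;> simp)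
        · rw [show killL A (X j) = X j by simp [killL, hj], sub_self]
          exact zero_mem _
    have := h x
    rwa [(RingHom.mem_ker).mp hx, sub_zero] at this
  · rw [LN, Ideal.span_le]
    rintro x (rfl | rfl | rfl) <;> simp [killL]

theorem isPrime_JN [IsDomain A] : (JN A).IsPrime := by
  haveI : IsDomain (S A) := IsLocalization.isDomain_localization powers_le
  rw [← ker_param]; exact RingHom.ker_isPrime (param A)

theorem isPrime_LN [IsDomain A] : (LN A).IsPrime := by
  rw [← ker_killL]; exact RingHom.ker_isPrime (killL A)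

theorem isRadical_IN [IsReduced A] : (IN A).IsRadical := by
  rw [IN_eq_inf, ← ker_param, ← ker_killL]
  intro x hx
  obtain ⟨n, hn⟩ := hx
  obtain ⟨h1, h2⟩ := Ideal.mem_inf.mp hn
  rw [RingHom.mem_ker, map_pow] at h1 h2
  exact Ideal.mem_inf.mpr ⟨IsReduced.eq_zero _ ⟨n, h1⟩, IsReduced.eq_zero _ ⟨n, h2⟩⟩

theorem one_notMem_LN [Nontrivial A] : (1 : P A) ∉ LN A := by
  rw [← ker_killL, RingHom.mem_ker, map_one]; exact one_ne_zero

theorem det_notMem_LN [Nontrivial A] : detN A ∉ LN A := fun h =>
  one_notMem_LN (det_nzd_LN 1 (by rwa [mul_one]))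

theorem u_notMem_JN [Nontrivial A] : (X 6 : P A) ∉ JN A := fun h => by
  rw [← ker_param, RingHom.mem_ker, param_X (by decide) (by decide) (by decide)] at h
  exact X_ne_zero (R := A) (6 : Fin 9) (algMap_injective (h.trans (map_zero _).symm))

theorem isRegular_of_nzd {R : Type*} [CommRing R] {x y z : R} (hx : NZD (⊥ : Ideal R) x)
    (hy : NZD (Ideal.span {x}) y) (hz : NZD (Ideal.span {x, y}) z)
    (htop : Ideal.span {x, y, z} ≠ ⊤) : RingTheory.Sequence.IsRegular R [x, y, z] := by
  have key : ∀ (I : Ideal R) (r : R), NZD I r → IsSMulRegular (R ⧸ (I • ⊤ : Submodule R R)) r := by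
    intro I r h
    rw [smul_eq_mul, Ideal.mul_top]
    intro a b hab
    obtain ⟨a, rfl⟩ := Submodule.Quotient.mk_surjective _ a
    obtain ⟨b, rfl⟩ := Submodule.Quotient.mk_surjective _ b
    change Submodule.Quotient.mk (r • a) = Submodule.Quotient.mk (r • b) at hab
    rw [Submodule.Quotient.eq] at hab ⊢
    exact h _ (by rwa [smul_eq_mul, smul_eq_mul, ← mul_sub] at hab)
  have e1 : ({r | r ∈ [x]} : Set R) = {x} := by ext; simp
  have e2 : ({r | r ∈ [x, y]} : Set R) = {x, y} := by ext; simp
  have e3 : ({r | r ∈ [x, y, z]} : Set R) = {x, y, z} := by ext; simp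
  refine ⟨⟨fun i hi => ?_⟩, ?_⟩
  · match i, hi with
    | 0, _ => exact key _ _ (by simpa using hx)
    | 1, _ => exact key _ _ (by simpa [Ideal.ofList, e1] using hy)
    | 2, _ =>
      exact key _ _ (by
        show NZD (Ideal.span {r | r ∈ [x, y]}) z
        rw [e2]; exact hz)
  · rw [smul_eq_mul, Ideal.mul_top, Ideal.ofList, e3]
    exact htop.symm

theorem regular_E [Nontrivial A] : RingTheory.Sequence.IsRegular (P A) [E1 A, E2 A, E3 A] := by
  have hE1w : NZD (Ideal.span {X 8}) (E1 A) := by
    have := linear_nzd' (3 : Fin 9) {X 8} (X 6 : P A) (-(X 0 * X 7)) (by simp [free_X])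
      (free_X (by decide)) ((free_X (by decide)).mul (free_X (by decide))).neg
      (X_nzd 6 _ (by simp [free_X]))
    refine this.congr ?_
    rw [show E1 A - (X 3 * X 6 + -(X 0 * X 7)) = X 2 * X 8 by simp only [E1]; ring]
    exact Ideal.mul_mem_left _ _ (Ideal.subset_span rfl)
  have hw : NZD (⊥ : Ideal (P A)) (X 8) := by
    rw [← Ideal.span_empty]; exact X_nzd 8 ∅ (by simp)
  have hwE1 : NZD (Ideal.span {E1 A}) (X 8) := by
    have := NZD.swap hw (by rwa [bot_sup_eq])
    rwa [bot_sup_eq] at this
  have hfree : ∀ j : Fin 9, j = 5 ∨ j = 1 → Free j (E1 A) := by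
    rintro j (rfl | rfl) <;>
    exact ((((free_X (by decide)).mul (free_X (by decide))).neg).add
      ((free_X (by decide)).mul (free_X (by decide)))).add ((free_X (by decide)).mul (free_X (by decide)))
  have hE1 : NZD (⊥ : Ideal (P A)) (E1 A) := by
    rw [← Ideal.span_empty]
    have := linear_nzd' (3 : Fin 9) ∅ (X 6 : P A) (-(X 0 * X 7) + X 2 * X 8) (by simp)
      (free_X (by decide))
      (((free_X (by decide)).mul (free_X (by decide))).neg.add ((free_X (by decide)).mul (free_X (by decide))))
      (X_nzd 6 _ (by simp))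
    exact this.congr (by
      rw [show E1 A - (X 3 * X 6 + (-(X 0 * X 7) + X 2 * X 8)) = 0 by simp only [E1]; ring]
      exact zero_mem _)
  have hE2 : NZD (Ideal.span {E1 A}) (E2 A) := by
    have := linear_nzd' (5 : Fin 9) {E1 A} (X 8 : P A) (X 4 * X 6 + X 3 * X 7 - X 7 * X 8)
      (by rintro s rfl; exact hfree 5 (Or.inl rfl)) (free_X (by decide))
      ((((free_X (by decide)).mul (free_X (by decide))).add ((free_X (by decide)).mul (free_X (by decide)))).sub
        ((free_X (by decide)).mul (free_X (by decide)))) hwE1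
    exact this.congr (by
      rw [show E2 A - (X 5 * X 8 + (X 4 * X 6 + X 3 * X 7 - X 7 * X 8)) = 0 by simp only [E2]; ring]
      exact zero_mem _)
  have hu : NZD (Ideal.span {X 8} ⊔ Ideal.span {E1 A}) (X 6) := by
    refine NZD.swap (X_nzd 6 _ (by simp [free_X])) ?_
    rw [← Ideal.span_insert]
    have h : NZD (Ideal.span {(X 8 : P A), X 6}) (-(X 0 * X 7)) :=
      ((X_nzd 0 _ (by simp [free_X])).mul (X_nzd 7 _ (by simp [free_X]))).neg
    refine h.congr (Ideal.mem_span_pair.mpr ⟨X 2, X 3, ?_⟩)
    simp only [E1]; ring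
  rw [← Ideal.span_insert] at hu
  have hE2w : NZD (Ideal.span {E1 A} ⊔ Ideal.span {X 8}) (E2 A) := by
    rw [sup_comm, ← Ideal.span_insert]
    have := linear_nzd' (4 : Fin 9) {X 8, E1 A} (X 6 : P A) (X 3 * X 7)
      (by
        rintro s (rfl | rfl)
        · exact free_X (by decide)
        · exact ((((free_X (by decide)).mul (free_X (by decide))).neg).add
            ((free_X (by decide)).mul (free_X (by decide)))).add ((free_X (by decide)).mul (free_X (by decide))))
      (free_X (by decide)) ((free_X (by decide)).mul (free_X (by decide))) hu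
    refine this.congr (Ideal.mem_span_pair.mpr ⟨X 5 - X 7, 0, ?_⟩)
    simp only [E2]; ring
  have hwE12 : NZD (Ideal.span {E1 A, E2 A}) (X 8) := by
    rw [Ideal.span_insert]
    exact NZD.swap hwE1 hE2w
  have hE3 : NZD (Ideal.span {E1 A, E2 A}) (E3 A) := by
    have := linear_nzd' (1 : Fin 9) {E1 A, E2 A} (-(X 8) : P A) (X 2 * X 7 + X 5 * X 6)
      (by
        rintro s (rfl | rfl)
        · exact hfree 1 (Or.inr rfl)
        · exact ((free_X (by decide)).mul (free_X (by decide))).add
            (((free_X (by decide)).mul (free_X (by decide))).add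
              (((free_X (by decide)).sub (free_X (by decide))).mul (free_X (by decide)))))
      (free_X (by decide)).neg
      (((free_X (by decide)).mul (free_X (by decide))).add ((free_X (by decide)).mul (free_X (by decide))))
      hwE12.neg
    exact this.congr (by
      rw [show E3 A - (X 1 * -X 8 + (X 2 * X 7 + X 5 * X 6)) = 0 by simp only [E3]; ring]
      exact zero_mem _)
  exact isRegular_of_nzd hE1 hE2 hE3 fun h => one_notMem_LN (IN_le_LN (h ▸ Submodule.mem_top))

end Groth.Agent.Lie3Lib
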