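import Mathlib
import Groth.Agent.Lie3Lib.Param
import Groth.Prelude.Def_W4c1bouilletffgsL3

set_option autoImplicit false

namespace Groth.Agent.Lie3Lib

open MvPolynomial

variable (A : Type*) [CommRing A]

noncomputable def toD : P A →ₐ[A] Lie3Mod.D A :=
  aeval ![X 6, X 2, X 8, X 7, X 4, X 5, X 0 - X 8, X 1 + X 5, X 3 + X 7]

noncomputable def ofD : Lie3Mod.D A →ₐ[A] P A :=
  aeval ![X 6 + X 2, X 7 - X 5, X 1, X 8 - X 3, X 4, X 5, X 0, X 3, X 2]

noncomputable def equiv : P A ≃ₐ[A] Lie3Mod.D A :=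
  AlgEquiv.ofAlgHom (toD A) (ofD A)
    (by ext j; fin_cases j <;> simp [toD, ofD])
    (by ext j; fin_cases j <;> simp [toD, ofD])

variable {A}

theorem equiv_symm_Q1 : (equiv A).symm (Lie3Mod.Q1 A) = E1 A := by
  change ofD A (Lie3Mod.Q1 A) = E1 A
  simp [ofD, Lie3Mod.Q1, E1]; ring

theorem equiv_symm_Q2 : (equiv A).symm (Lie3Mod.Q2 A) = -E2 A := by
  change ofD A (Lie3Mod.Q2 A) = -E2 A
  simp [ofD, Lie3Mod.Q2, E2]; ring

theorem equiv_symm_Q3 : (equiv A).symm (Lie3Mod.Q3 A) = -E3 A := by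
  change ofD A (Lie3Mod.Q3 A) = -E3 A
  simp [ofD, Lie3Mod.Q3, E3]; ring

theorem equiv_symm_det : (equiv A).symm (Lie3Mod.detM A) = detN A := by
  change ofD A (Lie3Mod.detM A) = detN A
  simp [ofD, Lie3Mod.detM, detN]; ring

theorem map_idI : (Lie3Mod.idI A).map (equiv A).symm = IN A := by
  rw [Lie3Mod.idI, Ideal.map_span]
  simp only [Set.image_insert_eq, Set.image_singleton, equiv_symm_Q1, equiv_symm_Q2, equiv_symm_Q3]
  refine le_antisymm (Ideal.span_le.mpr ?_) (Ideal.span_le.mpr ?_)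
  · rintro x (rfl | rfl | rfl)
    · exact Ideal.subset_span (by simp)
    · exact neg_mem (Ideal.subset_span (by simp))
    · exact neg_mem (Ideal.subset_span (by simp))
  · rintro x (rfl | rfl | rfl)
    · exact Ideal.subset_span (by simp)
    · rw [← neg_neg (E2 A)]; exact neg_mem (Ideal.subset_span (by simp))
    · rw [← neg_neg (E3 A)]; exact neg_mem (Ideal.subset_span (by simp))

theorem map_idL : (Lie3Mod.idL A).map (equiv A).symm = LN A := by
  rw [Lie3Mod.idL, Ideal.map_span, LN]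
  congr 1
  have h1 : (equiv A).symm (Lie3Mod.L1 A) = X 6 := by
    change ofD A (Lie3Mod.L1 A) = X 6; simp [ofD, Lie3Mod.L1]
  have h2 : (equiv A).symm (Lie3Mod.L2 A) = X 7 := by
    change ofD A (Lie3Mod.L2 A) = X 7; simp [ofD, Lie3Mod.L2]
  have h3 : (equiv A).symm (Lie3Mod.L3 A) = X 8 := by
    change ofD A (Lie3Mod.L3 A) = X 8; simp [ofD, Lie3Mod.L3]
  simp only [Set.image_insert_eq, Set.image_singleton, h1, h2, h3]

theorem map_idJ : (Lie3Mod.idJ A).map (equiv A).symm = JN A := by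
  have h : Lie3Mod.idJ A = Lie3Mod.idI A ⊔ Ideal.span {Lie3Mod.detM A} := by
    rw [Lie3Mod.idJ, Lie3Mod.idI, ← Ideal.span_union]; congr 1; ext x; simp; tauto
  rw [h, Ideal.map_sup, map_idI, Ideal.map_span, Set.image_singleton, equiv_symm_det, JN_eq]

theorem mem_idI {x : Lie3Mod.D A} : x ∈ Lie3Mod.idI A ↔ (equiv A).symm x ∈ IN A := by
  rw [← map_idI]
  exact (Ideal.apply_mem_of_equiv_iff (f := (equiv A).symm.toRingEquiv) (x := x)).symm

theorem mem_idJ {x : Lie3Mod.D A} : x ∈ Lie3Mod.idJ A ↔ (equiv A).symm x ∈ JN A := by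
  rw [← map_idJ]
  exact (Ideal.apply_mem_of_equiv_iff (f := (equiv A).symm.toRingEquiv) (x := x)).symm

theorem mem_idL {x : Lie3Mod.D A} : x ∈ Lie3Mod.idL A ↔ (equiv A).symm x ∈ LN A := by
  rw [← map_idL]
  exact (Ideal.apply_mem_of_equiv_iff (f := (equiv A).symm.toRingEquiv) (x := x)).symm

theorem idI_eq_inf : Lie3Mod.idI A = Lie3Mod.idJ A ⊓ Lie3Mod.idL A := by
  ext x
  rw [Ideal.mem_inf, mem_idI, mem_idJ, mem_idL, IN_eq_inf, Ideal.mem_inf]

theorem idI_le_idJ : Lie3Mod.idI A ≤ Lie3Mod.idJ A := idI_eq_inf.le.trans inf_le_left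

theorem idI_le_idL : Lie3Mod.idI A ≤ Lie3Mod.idL A := idI_eq_inf.le.trans inf_le_right

theorem colon_idL : (Lie3Mod.idI A).colon (Lie3Mod.idL A : Set (Lie3Mod.D A)) = Lie3Mod.idJ A := by
  ext x
  rw [mem_idJ, ← colon_LN, Submodule.mem_colon, Submodule.mem_colon]
  refine ⟨fun h l hl => ?_, fun h l hl => ?_⟩
  · have := h (equiv A l) (by
      rw [SetLike.mem_coe, mem_idL, AlgEquiv.symm_apply_apply]; exact hl)
    rw [smul_eq_mul, mem_idI, map_mul, AlgEquiv.symm_apply_apply] at this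
    exact this
  · rw [smul_eq_mul, mem_idI, map_mul]
    exact h _ (mem_idL.mp hl)

theorem colon_idJ : (Lie3Mod.idI A).colon (Lie3Mod.idJ A : Set (Lie3Mod.D A)) = Lie3Mod.idL A := by
  ext x
  rw [mem_idL, ← colon_JN, Submodule.mem_colon, Submodule.mem_colon]
  refine ⟨fun h l hl => ?_, fun h l hl => ?_⟩
  · have := h (equiv A l) (by
      rw [SetLike.mem_coe, mem_idJ, AlgEquiv.symm_apply_apply]; exact hl)
    rw [smul_eq_mul, mem_idI, map_mul, AlgEquiv.symm_apply_apply] at this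
    exact this
  · rw [smul_eq_mul, mem_idI, map_mul]
    exact h _ (mem_idJ.mp hl)

theorem isPrime_idJ [IsDomain A] : (Lie3Mod.idJ A).IsPrime := by
  haveI := isPrime_JN (A := A)
  rw [show Lie3Mod.idJ A = Ideal.comap (equiv A).symm (JN A) from Ideal.ext fun x => mem_idJ]
  exact Ideal.IsPrime.comap _

theorem isPrime_idL [IsDomain A] : (Lie3Mod.idL A).IsPrime := by
  haveI := isPrime_LN (A := A)
  rw [show Lie3Mod.idL A = Ideal.comap (equiv A).symm (LN A) from Ideal.ext fun x => mem_idL]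
  exact Ideal.IsPrime.comap _

theorem isRadical_idI [IsReduced A] : (Lie3Mod.idI A).IsRadical := by
  intro x hx
  obtain ⟨n, hn⟩ := hx
  rw [mem_idI, map_pow] at hn
  exact mem_idI.mpr (isRadical_IN ⟨n, hn⟩)

theorem idJ_mul_idL_le : Lie3Mod.idJ A * Lie3Mod.idL A ≤ Lie3Mod.idI A := by
  rw [← colon_idL, Ideal.mul_le]
  intro r hr s hs
  exact Submodule.mem_colon.mp hr s hs

theorem not_idL_le_idJ [Nontrivial A] : ¬ Lie3Mod.idL A ≤ Lie3Mod.idJ A := fun h => by
  have h1 : equiv A (X 6) ∈ Lie3Mod.idJ A := h (mem_idL.mpr (by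
    rw [AlgEquiv.symm_apply_apply]; exact Ideal.subset_span (by simp)))
  rw [mem_idJ, AlgEquiv.symm_apply_apply] at h1
  exact u_notMem_JN h1

theorem not_idJ_le_idL [Nontrivial A] : ¬ Lie3Mod.idJ A ≤ Lie3Mod.idL A := fun h => by
  have h1 : equiv A (detN A) ∈ Lie3Mod.idL A := h (mem_idJ.mpr (by
    rw [AlgEquiv.symm_apply_apply]; exact det_mem_JN))
  rw [mem_idL, AlgEquiv.symm_apply_apply] at h1
  exact det_notMem_LN h1

theorem idJ_minimal [IsDomain A] : Lie3Mod.idJ A ∈ (Lie3Mod.idI A).minimalPrimes := by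
  refine ⟨⟨isPrime_idJ, idI_le_idJ⟩, fun Q ⟨hQ, hIQ⟩ hQJ => ?_⟩
  rcases hQ.mul_le.mp (idJ_mul_idL_le.trans hIQ) with h | h
  · exact h
  · exact absurd (h.trans hQJ) not_idL_le_idJ

theorem idL_minimal [IsDomain A] : Lie3Mod.idL A ∈ (Lie3Mod.idI A).minimalPrimes := by
  refine ⟨⟨isPrime_idL, idI_le_idL⟩, fun Q ⟨hQ, hIQ⟩ hQL => ?_⟩
  rcases hQ.mul_le.mp (idJ_mul_idL_le.trans hIQ) with h | h
  · exact absurd (h.trans hQL) not_idJ_le_idL
  · exact h

theorem nsmul_mem_idJ {n : ℤ} (hn : n ≠ 0) {x : Lie3Mod.D ℤ} (hx : n • x ∈ Lie3Mod.idJ ℤ) :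
    x ∈ Lie3Mod.idJ ℤ := by
  haveI := isPrime_idJ (A := ℤ)
  rw [zsmul_eq_mul] at hx
  refine (Ideal.IsPrime.mem_or_mem inferInstance hx).resolve_left fun h => ?_
  rw [mem_idJ, map_intCast, ← ker_param, RingHom.mem_ker, map_intCast] at h
  have h2 : ((n : P ℤ)) = 0 := algMap_injective (by rw [map_intCast, map_zero]; exact h)
  exact hn (MvPolynomial.C_injective (Fin 9) ℤ ((eq_intCast MvPolynomial.C n).trans (h2.trans (map_zero _).symm)))

theorem nsmul_mem_idL {n : ℤ} (hn : n ≠ 0) {x : Lie3Mod.D ℤ} (hx : n • x ∈ Lie3Mod.idL ℤ) :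
    x ∈ Lie3Mod.idL ℤ := by
  haveI := isPrime_idL (A := ℤ)
  rw [zsmul_eq_mul] at hx
  refine (Ideal.IsPrime.mem_or_mem inferInstance hx).resolve_left fun h => ?_
  rw [mem_idL, map_intCast, ← ker_killL, RingHom.mem_ker, map_intCast] at h
  exact hn (MvPolynomial.C_injective (Fin 9) ℤ ((eq_intCast MvPolynomial.C n).trans (h.trans (map_zero _).symm)))

theorem flat_of_saturated {M : Type*} [AddCommGroup M] (N : AddSubgroup M)
    (h : ∀ (n : ℤ) (x : M), n ≠ 0 → n • x ∈ N → x ∈ N) : Module.IsTorsionFree ℤ (M ⧸ N) :=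
  Module.isTorsionFree_iff_smul_eq_zero.mpr fun n x hx => by
    obtain ⟨x, rfl⟩ := QuotientAddGroup.mk_surjective x
    by_cases hn : n = 0
    · exact Or.inl hn
    · refine Or.inr ((QuotientAddGroup.eq_zero_iff x).mpr (h n x hn ?_))
      rw [← QuotientAddGroup.eq_zero_iff, QuotientAddGroup.mk_zsmul]; exact hx

end Groth.Agent.Lie3Lib

namespace Groth.Agent.Lie3Lib

open MvPolynomial

variable {A : Type*} [CommRing A]

theorem NZD.pullback {R S : Type*} [CommRing R] [CommRing S] (e : S ≃+* R) {I : Ideal R}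
    {J : Ideal S} (h : ∀ x, x ∈ J ↔ e x ∈ I) {x : S} (hx : NZD I (e x)) : NZD J x := fun y hy =>
  (h y).mpr (hx _ (by rw [← map_mul]; exact (h _).mp hy))

theorem mem_span_equiv (s : Set (Lie3Mod.D A)) (x : Lie3Mod.D A) :
    x ∈ Ideal.span s ↔ (equiv A).symm x ∈ Ideal.span ((equiv A).symm '' s) := by
  have h := (Ideal.apply_mem_of_equiv_iff (I := Ideal.span s)
    (f := (equiv A).symm.toRingEquiv) (x := x)).symm
  rw [Ideal.map_span] at h
  exact h

theorem span_neg_singleton {R : Type*} [CommRing R] (a : R) :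
    Ideal.span {-a} = Ideal.span {a} := Ideal.span_singleton_neg a

theorem regular_L [Nontrivial A] :
    RingTheory.Sequence.IsRegular (Lie3Mod.D A) [Lie3Mod.L1 A, Lie3Mod.L2 A, Lie3Mod.L3 A] := by
  have h1 : (equiv A).symm (Lie3Mod.L1 A) = X 6 := by
    change ofD A (Lie3Mod.L1 A) = X 6; simp [ofD, Lie3Mod.L1]
  have h2 : (equiv A).symm (Lie3Mod.L2 A) = X 7 := by
    change ofD A (Lie3Mod.L2 A) = X 7; simp [ofD, Lie3Mod.L2]
  have h3 : (equiv A).symm (Lie3Mod.L3 A) = X 8 := by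
    change ofD A (Lie3Mod.L3 A) = X 8; simp [ofD, Lie3Mod.L3]
  refine isRegular_of_nzd ?_ ?_ ?_ ?_
  · refine NZD.pullback (equiv A).symm.toRingEquiv (I := ⊥) (fun x => by simp) ?_
    change NZD ⊥ ((equiv A).symm (Lie3Mod.L1 A))
    rw [h1, ← Ideal.span_empty]; exact X_nzd 6 ∅ (by simp)
  · refine NZD.pullback (equiv A).symm.toRingEquiv (mem_span_equiv _) ?_
    change NZD _ ((equiv A).symm (Lie3Mod.L2 A))
    rw [Set.image_singleton, h1, h2]; exact X_nzd 7 _ (by simp [free_X])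
  · refine NZD.pullback (equiv A).symm.toRingEquiv (mem_span_equiv _) ?_
    change NZD _ ((equiv A).symm (Lie3Mod.L3 A))
    rw [Set.image_pair, h1, h2, h3]; exact X_nzd 8 _ (by simp [free_X])
  · intro h
    have : (1 : Lie3Mod.D A) ∈ Lie3Mod.idL A := by rw [Lie3Mod.idL, h]; trivial
    rw [mem_idL, map_one] at this
    exact one_notMem_LN this

theorem regular_Q [Nontrivial A] :
    RingTheory.Sequence.IsRegular (Lie3Mod.D A) [Lie3Mod.Q1 A, Lie3Mod.Q2 A, Lie3Mod.Q3 A] := by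
  have hE := (regular_E (A := A)).toIsWeaklyRegular.regular_mod_prev
  have of_reg : ∀ (I : Ideal (P A)) (r : P A),
      IsSMulRegular (P A ⧸ (I • ⊤ : Submodule (P A) (P A))) r → NZD I r := by
    intro I r h y hy
    have h0 : r • (Submodule.Quotient.mk y : P A ⧸ (I • ⊤ : Submodule (P A) (P A))) =
        r • (Submodule.Quotient.mk 0) := by
      rw [← Submodule.Quotient.mk_smul, ← Submodule.Quotient.mk_smul, Submodule.Quotient.eq,
        smul_zero, sub_zero, smul_eq_mul, smul_eq_mul, Ideal.mul_top]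
      exact hy
    have := (Submodule.Quotient.eq _).mp (h h0)
    rwa [sub_zero, smul_eq_mul, Ideal.mul_top] at this
  have n1 : NZD (⊥ : Ideal (P A)) (E1 A) := by
    have := of_reg _ _ (hE 0 (by simp))
    simpa using this
  have n2 : NZD (Ideal.span {E1 A}) (E2 A) := by
    have := of_reg _ _ (hE 1 (by simp))
    simpa [Ideal.ofList] using this
  have n3 : NZD (Ideal.span {E1 A, -E2 A}) (E3 A) := by
    have h := of_reg _ _ (hE 2 (by simp))
    change NZD (Ideal.span {r | r ∈ [E1 A, E2 A]}) (E3 A) at h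
    refine h.of_eq ?_
    rw [show ({r | r ∈ [E1 A, E2 A]} : Set (P A)) = {E1 A, E2 A} by ext; simp,
      Ideal.span_insert, Ideal.span_insert, span_neg_singleton]
  refine isRegular_of_nzd ?_ ?_ ?_ ?_
  · refine NZD.pullback (equiv A).symm.toRingEquiv (I := ⊥) (fun x => by simp) ?_
    change NZD ⊥ ((equiv A).symm (Lie3Mod.Q1 A))
    rw [equiv_symm_Q1]; exact n1
  · refine NZD.pullback (equiv A).symm.toRingEquiv (mem_span_equiv _) ?_
    change NZD _ ((equiv A).symm (Lie3Mod.Q2 A))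
    rw [Set.image_singleton, equiv_symm_Q1, equiv_symm_Q2]; exact n2.neg
  · refine NZD.pullback (equiv A).symm.toRingEquiv (mem_span_equiv _) ?_
    change NZD _ ((equiv A).symm (Lie3Mod.Q3 A))
    rw [Set.image_pair, equiv_symm_Q1, equiv_symm_Q2, equiv_symm_Q3]; exact n3.neg
  · intro h
    have : (1 : Lie3Mod.D A) ∈ Lie3Mod.idL A := idI_le_idL (by rw [Lie3Mod.idI, h]; trivial)
    rw [mem_idL, map_one] at this
    exact one_notMem_LN this

theorem flat_int_quotient (I : Ideal (Lie3Mod.D ℤ))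
    (h : ∀ (n : ℤ) (x : Lie3Mod.D ℤ), n ≠ 0 → n • x ∈ I → x ∈ I) :
    Module.Flat ℤ (Lie3Mod.D ℤ ⧸ I) := by
  have : Module.IsTorsionFree ℤ (Lie3Mod.D ℤ ⧸ I) :=
    Module.isTorsionFree_iff_smul_eq_zero.mpr fun n x hx => by
      obtain ⟨x, rfl⟩ := Ideal.Quotient.mk_surjective x
      by_cases hn : n = 0
      · exact Or.inl hn
      · refine Or.inr (Ideal.Quotient.eq_zero_iff_mem.mpr (h n x hn ?_))
        rw [← Ideal.Quotient.eq_zero_iff_mem, map_zsmul]; exact hx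
  rw [Module.Flat.flat_iff_torsion_eq_bot_of_isBezout, ← Submodule.isTorsionFree_iff_torsion_eq_bot]
  exact this

end Groth.Agent.Lie3Lib
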